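import Cfsg.Agent.BrauerPairs.Nil.SectionIdem

/-!
Fixed idempotents with the same image under the Brauer map at `u` take the same values on the
section of `u`.
-/

set_option maxHeartbeats 400000
set_option linter.unusedSectionVars false
set_option linter.style.haveILetI false

namespace Cfsg.Agent.BrauerPairs.FreeAbelian

open MonoidAlgebra Cfsg
open Cfsg.Agent.BrauerPairs.Nil

universe u

variable {p : ℕ} [Fact p.Prime] {M : Ideal AlgInt} [M.IsPrime] [CharP (Block.ResF M) p]
  {G : Type u} [Group G] [Fintype G]

/-- Idempotents with one image take one value on the section. -/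
theorem charLin_eq_of_trunc_eq (hM : IsPModular p M) {u : G} {k : ℕ} (hu : orderOf u = p ^ k)
    {Q : Subgroup G} (hQu : Subgroup.zpowers u = Q)
    {i ε : MonoidAlgebra (Block.localRing M) G} (hi : i * i = i) (hifix : Fixed Q i)
    (hε2 : ε * ε = ε) (hεfix : Fixed Q ε)
    (hεi : trunc Q (Block.toF M ε) = trunc Q (Block.toF M i)) {φ : G → ℂ}
    (hφ : IsClassFunction G φ) :
    Block.charLin φ (single u 1 * Block.toC M i) =
      Block.charLin φ (single u 1 * Block.toC M ε) := by
  have hQ : IsPGroup p Q := IsPGroup.of_card (n := k) (by rw [← hQu, Nat.card_zpowers, hu])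
  have hFi : Block.toF M i * Block.toF M i = Block.toF M i := by rw [← map_mul, hi]
  set t := trunc Q (Block.toF M i) with ht
  have ht2 : t * t = t := by rw [ht, ← trunc_mul hQ (toF_fixed hifix) (toF_fixed hifix), hFi]
  have hεt : trunc Q (Block.toF M ε) = t := hεi
  set q := i * ε * i with hq
  have hqfix : Fixed Q q := (hifix.mul hεfix).mul hifix
  have hqt : trunc Q (Block.toF M q) = t := by
    rw [hq, map_mul (Block.toF M), map_mul (Block.toF M),
      trunc_mul hQ ((toF_fixed hifix).mul (toF_fixed hεfix)) (toF_fixed hifix),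
      trunc_mul hQ (toF_fixed hifix) (toF_fixed hεfix), hεt, ← ht, ht2, ht2]
  obtain ⟨R, S, hR0, hR1, hRi, hRS⟩ := exists_lift_poly q
  set E := Polynomial.aeval q R with hE
  set V := Polynomial.aeval q S with hV
  have hiq : i * q = q := by rw [hq, ← mul_assoc, ← mul_assoc, hi]
  have hiE : i * E = E := by
    conv_lhs => rw [← hRS, ← mul_assoc, ← mul_assoc, hiq]
    exact hRS
  have hEfix : Fixed Q E := fixed_aeval hqfix R
  have hVfix : Fixed Q V := fixed_aeval hqfix S
  have hEt : trunc Q (Block.toF M E) = t := trunc_aeval_red hQ hqfix hqt ht2 hR0 hR1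
  have hcVq : Commute q V := by
    rw [hV]
    conv => arg 1; rw [← Polynomial.aeval_X (R := Block.localRing M) q]
    exact (Commute.all Polynomial.X S).map _
  have hcEq : Commute q E := by
    rw [hE]
    conv => arg 1; rw [← Polynomial.aeval_X (R := Block.localRing M) q]
    exact (Commute.all Polynomial.X R).map _
  have hcEV : Commute V E := by
    rw [hV, hE]
    exact (Commute.all S R).map _
  have hqi : q * i = q := by rw [hq, mul_assoc, hi]
  have hEi : E * i = E := by
    conv_lhs => rw [← hRS, mul_assoc q V E, hcEV.eq, ← mul_assoc q E V, hcEq.eq, mul_assoc E q V,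
      hcVq.eq, mul_assoc, mul_assoc, hqi]
    conv_rhs => rw [← hRS, mul_assoc q V E, hcEV.eq, ← mul_assoc q E V, hcEq.eq, mul_assoc E q V,
      hcVq.eq]
  -- the part without Brauer image
  have h1 : (i - E) * (i - E) = i - E := by
    rw [sub_mul, mul_sub, mul_sub, hi, hiE, hEi, hRi, sub_self, sub_zero]
  have h1t : trunc Q (Block.toF M (i - E)) = 0 := by
    rw [map_sub, map_sub, hEt, ← ht, sub_self]
  have z1 := charLin_eq_zero_of_trunc hM hu hQu h1 (fixed_sub hifix hEfix) h1t hφ
  -- the equivalent idempotent below `ε`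
  set X := E * ε with hX
  set Y := ε * (V * E) with hY
  have hXY : X * Y = E := by
    calc X * Y = E * (ε * ε) * (V * E) := by rw [hX, hY]; simp only [mul_assoc]
      _ = (E * i) * ε * (V * (i * E)) := by rw [hε2, hEi, hiE]
      _ = E * (i * ε * (V * i)) * E := by simp only [mul_assoc]
      _ = E * (q * V) * E := by
        congr 2
        have hVi : Commute V i := by
          have : ∀ T : Polynomial (Block.localRing M), Commute (Polynomial.aeval q T) i := by
            intro T
            have hqc : Commute q i := hqi.trans hiq.symm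
            induction T using Polynomial.induction_on' with
            | add a b ha hb => rw [map_add]; exact ha.add_left hb
            | monomial n r =>
              rw [Polynomial.aeval_monomial, ← Algebra.smul_def]
              exact (hqc.pow_left n).smul_left r
          exact this S
        rw [hVi.eq, ← mul_assoc]
      _ = E * (q * V * E) := by simp only [mul_assoc]
      _ = E := by rw [hRS, hRi]
  set F := Y * X with hF
  have hF2 : F * F = F := by
    calc F * F = Y * (X * Y) * X := by rw [hF]; simp only [mul_assoc]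
      _ = Y * E * X := by rw [hXY]
      _ = F := by
        rw [hF, hY, hX, mul_assoc ε (V * E) E, mul_assoc V E E, hRi]
  have hXfix : Fixed Q X := hEfix.mul hεfix
  have hYfix : Fixed Q Y := hεfix.mul (hVfix.mul hEfix)
  have hFt : trunc Q (Block.toF M F) = t := by
    have hVt : t * trunc Q (Block.toF M V) * t = t := by
      have := congrArg (fun a => trunc Q (Block.toF M a)) hRS
      rw [map_mul (Block.toF M), map_mul (Block.toF M),
        trunc_mul hQ ((toF_fixed hqfix).mul (toF_fixed hVfix)) (toF_fixed hEfix),
        trunc_mul hQ (toF_fixed hqfix) (toF_fixed hVfix), hqt, hEt] at this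
      exact this
    rw [show F = ε * (V * E) * (E * ε) from rfl, map_mul (Block.toF M) (ε * (V * E)) (E * ε),
      map_mul (Block.toF M) ε (V * E), map_mul (Block.toF M) V E, map_mul (Block.toF M) E ε,
      trunc_mul hQ ((toF_fixed hεfix).mul ((toF_fixed hVfix).mul (toF_fixed hEfix)))
        ((toF_fixed hEfix).mul (toF_fixed hεfix)),
      trunc_mul hQ (toF_fixed hεfix) ((toF_fixed hVfix).mul (toF_fixed hEfix)),
      trunc_mul hQ (toF_fixed hVfix) (toF_fixed hEfix),
      trunc_mul hQ (toF_fixed hEfix) (toF_fixed hεfix), hεt, hEt, ht2, ← mul_assoc, hVt, ht2]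
  have hεY : ε * Y = Y := by rw [hY, ← mul_assoc, hε2]
  have hXε : X * ε = X := by rw [hX, mul_assoc, hε2]
  have hεF : ε * F = F := by rw [hF, ← mul_assoc, hεY]
  have hFε : F * ε = F := by rw [hF, mul_assoc, hXε]
  have h2 : (ε - F) * (ε - F) = ε - F := by
    rw [sub_mul, mul_sub, mul_sub, hε2, hεF, hFε, hF2, sub_self, sub_zero]
  have h2t : trunc Q (Block.toF M (ε - F)) = 0 := by
    rw [map_sub, map_sub, hεt, hFt, sub_self]
  have z2 := charLin_eq_zero_of_trunc hM hu hQu h2 (fixed_sub hεfix (hYfix.mul hXfix)) h2t hφ
  have hswap : Block.charLin φ (single u 1 * Block.toC M E) =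
      Block.charLin φ (single u 1 * Block.toC M F) := by
    have hXc : Commute (single u (1 : ℂ)) (Block.toC M X) :=
      commute_single_of_fixed (fun h hh g => by
        rw [Block.coeff_mapR, Block.coeff_mapR, hXfix h (hQu ▸ hh) g]) 1
    rw [← hXY, hF, map_mul (Block.toC M) X Y, map_mul (Block.toC M) Y X, ← mul_assoc, hXc.eq,
      mul_assoc, charLin_mul_comm hφ, mul_assoc]
  rw [map_sub, mul_sub, map_sub, sub_eq_zero] at z1 z2
  rw [z1, hswap, ← z2]

end Cfsg.Agent.BrauerPairs.FreeAbelian
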